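import Mathlib
import Groth.Prelude.Def_FlatCA

/-! helper7: flatness at primes is stable under base change (localized modules, cancelBaseChange). -/

set_option autoImplicit false
set_option linter.style.haveILetI false
set_option linter.unusedVariables false
set_option linter.unusedSectionVars false

universe u

open TensorProduct

namespace Groth.Agent.Helper7.FlatAtBC

/-- A localization (as a `B`-module) of an `A`-flat `B`-module is `A`-flat. -/
theorem flat_of_isLocalizedModule {A B : Type u} [CommRing A] [CommRing B] [Algebra A B]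
    (T : Submonoid B) {N N' : Type u} [AddCommGroup N] [AddCommGroup N'] [Module A N] [Module B N]
    [IsScalarTower A B N] [Module A N'] [Module B N'] [IsScalarTower A B N']
    (g : N →ₗ[B] N') [IsLocalizedModule T g] [Module.Flat A N] : Module.Flat A N' := by
  have H : Module.Flat A N := inferInstance
  rw [Module.Flat.iff_lTensor_injectiveₛ] at H ⊢
  intro P _ _ Q
  have h1 := H Q
  rw [← AlgebraTensorModule.coe_lTensor (A := B)] at h1 ⊢
  rw [← IsLocalizedModule.map_lTensor (S := T) (f := Q.subtype) (g := g)]
  exact IsLocalizedModule.map_injective T _ _ _ h1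

/-- `lTensor` preserves localized modules. -/
theorem isLocalizedModule_lTensor {S : Type u} [CommRing S] (T : Submonoid S) {M N : Type u}
    [AddCommGroup M] [AddCommGroup N] [Module S M] [Module S N] (g : M →ₗ[S] N)
    [IsLocalizedModule T g] (P : Type u) [AddCommGroup P] [Module S P] :
    IsLocalizedModule T (g.lTensor P) := by
  have h1 : IsLocalizedModule T (AlgebraTensorModule.rTensor S P g) := inferInstance
  have h2 : g.lTensor P = (TensorProduct.comm S N P).toLinearMap ∘ₗ
      (AlgebraTensorModule.rTensor S P g) ∘ₗ (TensorProduct.comm S P M).toLinearMap := by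
    ext; simp
  rw [h2]
  infer_instance

theorem main {R S R' S' : Type u} [CommRing R] [CommRing S] [CommRing R'] [CommRing S']
    [Algebra R S] [Algebra R R'] [Algebra S S'] [Algebra R' S'] [Algebra R S'] [IsScalarTower R S S']
    [IsScalarTower R R' S'] [Algebra.IsPushout R S R' S']
    (I : Ideal R) (I' : Ideal R') (hII' : I.map (algebraMap R R') ≤ I')
    {M M' : Type u} [AddCommGroup M] [Module S M] [Module R M] [IsScalarTower R S M]
    [AddCommGroup M'] [Module S' M'] [Module R' M'] [IsScalarTower R' S' M'] [Module S M']
    [IsScalarTower S S' M']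
    (f : M →ₗ[S] M') (hf : IsBaseChange S' f) (J : Ideal S)
    (h : (∀ (q : Ideal S) [q.IsPrime], I.map (algebraMap R S) ⊔ J ≤ q → FlatCA.FlatAt R q M)) :
    (∀ (q : Ideal S') [q.IsPrime], I'.map (algebraMap R' S') ⊔ J.map (algebraMap S S') ≤ q →
      FlatCA.FlatAt R' q M') := by
  intro q' _ hq'
  let q : Ideal S := q'.comap (algebraMap S S')
  haveI : q.IsPrime := Ideal.comap_isPrime _ _
  have hq : I.map (algebraMap R S) ⊔ J ≤ q := by
    refine sup_le ?_ ?_
    · rw [Ideal.map_le_iff_le_comap]
      intro x hx
      simp only [Ideal.mem_comap, q]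
      rw [← IsScalarTower.algebraMap_apply R S S', IsScalarTower.algebraMap_apply R R' S']
      apply hq'
      apply Ideal.mem_sup_left
      apply Ideal.mem_map_of_mem
      apply hII'
      exact Ideal.mem_map_of_mem _ hx
    · intro x hx
      simp only [Ideal.mem_comap, q]
      apply hq'
      exact Ideal.mem_sup_right (Ideal.mem_map_of_mem _ hx)
  have hflat : Module.Flat R (LocalizedModule q.primeCompl M) := h q hq
  unfold FlatCA.FlatAt
  let N := LocalizedModule q.primeCompl M
  haveI : Algebra.IsPushout R R' S S' := Algebra.IsPushout.symm inferInstance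
  have hflat2 : Module.Flat R' (S' ⊗[S] N) :=
    Module.Flat.of_linearEquiv (Algebra.IsPushout.cancelBaseChange R R' S S' N)
  let T₀ : Submonoid S' := Algebra.algebraMapSubmonoid S' q.primeCompl
  let f₁ : M' →ₗ[S'] S' ⊗[S] N :=
    (AlgebraTensorModule.lTensor S' S' (LocalizedModule.mkLinearMap q.primeCompl M)) ∘ₗ
      hf.equiv.symm.toLinearMap
  haveI : IsLocalizedModule q.primeCompl (f₁.restrictScalars S) := by
    have h3 : f₁.restrictScalars S = ((LocalizedModule.mkLinearMap q.primeCompl M).lTensor S') ∘ₗ
        (hf.equiv.symm.restrictScalars S).toLinearMap := by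
      ext; rfl
    rw [h3]
    haveI := isLocalizedModule_lTensor q.primeCompl (LocalizedModule.mkLinearMap q.primeCompl M) S'
    infer_instance
  haveI : IsLocalizedModule T₀ f₁ := IsLocalizedModule.of_restrictScalars q.primeCompl f₁
  have hle : T₀ ≤ q'.primeCompl := by
    rintro _ ⟨x, hx, rfl⟩
    exact hx
  let g := IsLocalizedModule.liftOfLE T₀ q'.primeCompl hle f₁
    (LocalizedModule.mkLinearMap q'.primeCompl M')
  exact flat_of_isLocalizedModule (A := R') (B := S') q'.primeCompl g

end Groth.Agent.Helper7.FlatAtBC
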